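import Mathlib
import Groth.Agent.Lib.Helper1.TorL

/-!
# Symmetry of the vanishing of `Tor` (helper5)
-/
set_option autoImplicit false
universe u
open CategoryTheory CategoryTheory.Limits

namespace Groth.Agent.Lib.Helper5.BC

open Groth.Agent.Helper1.TorL

variable {R : Type u} [CommRing R]

/-- the vanishing of `Tor_{n+1}` is symmetric in the two variables -/
theorem isZero_tor_succ_symm (n : ℕ) : ∀ (M N : Type u) [AddCommGroup M] [Module R M]
    [AddCommGroup N] [Module R N],
    IsZero (T (n + 1) (ModuleCat.of R M) (ModuleCat.of R N)) →
      IsZero (T (n + 1) (ModuleCat.of R N) (ModuleCat.of R M)) := by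
  induction n with
  | zero =>
    intro M N _ _ _ _ h
    let q : (M →₀ R) →ₗ[R] M := Finsupp.linearCombination R (id : M → M)
    let j : LinearMap.ker q →ₗ[R] (M →₀ R) := (LinearMap.ker q).subtype
    have hj : Function.Injective j := Submodule.injective_subtype _
    have hq : Function.Surjective q := Finsupp.linearCombination_id_surjective R M
    have hjq : Function.Exact j q := LinearMap.exact_subtype_ker_map q
    rw [zero_add] at h ⊢
    rw [isZero_tor_one_iff_lTensor_injective (K := LinearMap.ker q) (F := M →₀ R) (Y := M) j q hj hq hjq N]
    rw [isZero_tor_one_iff M (ModuleCat.of R N)] at h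
    exact (LinearMap.lTensor_inj_iff_rTensor_inj N j).2 h
  | succ n ih =>
    intro M N _ _ _ _ h
    let q : (M →₀ R) →ₗ[R] M := Finsupp.linearCombination R (id : M → M)
    let j : LinearMap.ker q →ₗ[R] (M →₀ R) := (LinearMap.ker q).subtype
    have hj : Function.Injective j := Submodule.injective_subtype _
    have hq : Function.Surjective q := Finsupp.linearCombination_id_surjective R M
    have hjq : Function.Exact j q := LinearMap.exact_subtype_ker_map q
    rw [isZero_tor_succ_succ_iff M (ModuleCat.of R N) n] at h
    rw [isZero_tor_succ_succ_iff_right (K := LinearMap.ker q) (F := M →₀ R) (Y := M) j q hj hq hjq n N]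
    exact ih (LinearMap.ker q) N h

end Groth.Agent.Lib.Helper5.BC
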