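import Mathlib
import Groth.Agent.Lib.Helper5.BC.Levels
import Groth.Agent.Lib.Helper5.TorInd.TorSymm

/-!
# The class of tor independent cospans (helper5)
-/
set_option autoImplicit false
set_option linter.unusedSectionVars false
set_option linter.unusedVariables false
set_option linter.style.haveILetI false
universe u
open CategoryTheory CategoryTheory.Limits AlgebraicGeometry

namespace Groth.Agent.Lib.Helper5.BC

open Groth.Agent.Helper1.TorL

/-- the vanishing of `Tor_i^R(R', A)` for two ring maps out of `R` -/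
def TorP {R A R' : CommRingCat.{u}} (φ : R ⟶ A) (ρ : R ⟶ R') (i : ℕ) : Prop :=
  Subsingleton (@DRing.Tor R _ i R' A _ ρ.hom.toModule _ φ.hom.toModule)

/-- tor independence of a cospan of schemes, on affine opens -/
def TorIndClass : ∀ {X Y Y' : Scheme.{u}}, (X ⟶ Y) → (Y' ⟶ Y) → Prop := fun {X Y Y'} f g =>
  ∀ (U : Y.Opens), IsAffineOpen U → ∀ (U' : Y'.Opens), IsAffineOpen U' →
    ∀ (hU' : U' ≤ g ⁻¹ᵁ U) (V : X.Opens), IsAffineOpen V → ∀ (hV : V ≤ f ⁻¹ᵁ U) (i : ℕ), 0 < i →
      TorP (f.appLE U V hV) (g.appLE U U' hU') i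

/-- `Tor` against a flat algebra vanishes -/
theorem torP_of_flat {R A R' : CommRingCat.{u}} (φ : R ⟶ A) (ρ : R ⟶ R') (hφ : φ.hom.Flat)
    (i : ℕ) (hi : 0 < i) : TorP φ ρ i := by
  obtain ⟨n, rfl⟩ := Nat.exists_eq_succ_of_ne_zero hi.ne'
  letI : Module R A := φ.hom.toModule
  letI : Module R R' := ρ.hom.toModule
  haveI : Module.Flat R A := hφ
  have hz := isZero_tor_succ_of_flat_right (R := (R : Type u)) (ModuleCat.of R A) n R'
  exact ModuleCat.subsingleton_of_isZero hz

theorem bcClass_torInd : BCClass @TorIndClass where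
  restrict f g U U' hU' h := by
    intro W hW W' hW' hWW' V hV hVW i hi
    have h0 := h (U.ι ''ᵁ W) (hW.image_of_isOpenImmersion U.ι) (U'.ι ''ᵁ W')
      (hW'.image_of_isOpenImmersion U'.ι) ((Scheme.Hom.le_resLE_preimage_iff g hU' W W').mp hWW')
      ((f ⁻¹ᵁ U).ι ''ᵁ V) (hV.image_of_isOpenImmersion (f ⁻¹ᵁ U).ι)
      ((Set.image_mono hVW).trans (image_morphismRestrict_preimage f U W).le) i hi
    rw [← morphismRestrict_appLE f U W V hVW, ← Scheme.Hom.resLE_appLE g hU' W W' hWW'] at h0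
    exact h0
  source f g W h := by
    intro U hU U' hU' hUU' V hV hVW i hi
    have hle : W.ι ''ᵁ V ≤ f ⁻¹ᵁ U := by
      rintro _ ⟨x, hx, rfl⟩
      exact hVW hx
    have h0 := h U hU U' hU' hUU' (W.ι ''ᵁ V) (hV.image_of_isOpenImmersion W.ι) hle i hi
    have e : (W.ι ≫ f).appLE U V hVW = f.appLE U (W.ι ''ᵁ V) hle := by
      rw [Scheme.Hom.comp_appLE, Scheme.Opens.ι_appLE]
      rfl
    rw [e]
    exact h0
  rho hsq W h := by
    intro U hU U' hU' hUU' V hV hVW i hi
    exact torP_of_flat _ _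
      (HasRingHomProperty.appLE (P := @Flat) W.ι inferInstance ⟨U, hU⟩ ⟨V, hV⟩ hVW) i hi

end Groth.Agent.Lib.Helper5.BC
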