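import Mathlib
import Groth.Agent.Lib.Helper5.TBC.Cmp
import Groth.Agent.Lib.Helper5.TBC.Pushout
import Groth.Agent.Lib.Helper5.FibStalk.Transport
import Groth.Agent.Lib.Helper5.TorInd.TorSymm

/-!
# Tor independent base change on K-projective resolutions, ring level (helper5)
-/

set_option autoImplicit false
set_option linter.unusedSectionVars false
set_option linter.unusedVariables false
set_option linter.style.haveILetI false
universe u
open CategoryTheory CategoryTheory.Limits DerivedCategory MonoidalCategory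
attribute [local instance] HasDerivedCategory.standard

namespace Groth.Agent.Lib.Helper5.TorInd
open Groth.Agent.Lib.Helper5.TBC Groth.Agent.Lib.Helper5.DTenLib Helper5.Gen
  Groth.Agent.Lib.Helper5.KProj Groth.Agent.Helper1.TorL

section

variable {R A R' A' : Type u} [CommRing R] [CommRing A] [CommRing R'] [CommRing A']
  {φ : R →+* A} {ρ : R →+* R'} {α : A →+* A'} {φ' : R' →+* A'} (h : α.comp φ = φ'.comp ρ)

/-- under tor independence, extension of scalars along `ρ` preserves a K-projective resolution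
over `R` of the restriction of a K-projective complex over `A` -/
theorem quasiIso_bcCx_of_torIndep (hc : IsCocart h) (hta : TorIndep φ ρ)
    (P : DRing.Cx A) [P.IsKProjective] {G : DRing.Cx R} [G.IsKProjective]
    (r : G ⟶ (rsCx φ).obj P) (hr : QuasiIso r) : QuasiIso ((bcCx ρ).map r) := by
  have e := cmp_Q_eq h P r
  haveI : IsIso (TrivBC.cmp (myAdj ρ) (myAdj α) h (Q.obj P)) :=
    isIso_cmp_myAdj h hc hta (Q.obj P)
  haveI : IsIso (Q.map r) := by
    rw [DerivedCategory.isIso_Q_map_iff_quasiIso]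
    exact hr
  have h1 : IsIso ((lbcCmp ρ).app G ≫ Q.map (Θ h P r)) := by
    rw [← e]
    infer_instance
  have h2 : IsIso (Q.map (Θ h P r)) := IsIso.of_isIso_comp_left ((lbcCmp ρ).app G) _
  have h3 : QuasiIso (Θ h P r) := (DerivedCategory.isIso_Q_map_iff_quasiIso _ _).1 h2
  rw [Θ_eq] at h3
  haveI := isIso_κcx h hc P
  exact (quasiIso_iff_comp_right ((bcCx ρ).map r) (κcx h P)).1 h3

end

end Groth.Agent.Lib.Helper5.TorInd

namespace Groth.Agent.Lib.Helper5.TorInd
open Groth.Agent.Lib.Helper5.TBC Groth.Agent.Lib.Helper5.DTenLib Helper5.Gen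
  Groth.Agent.Lib.Helper5.KProj Groth.Agent.Helper1.TorL

section Cat

variable {R A R' : CommRingCat.{u}} (φ : R ⟶ A) (ρ : R ⟶ R')

/-- the hypothesis of tor independence in terms of `DRing.Tor` gives `TorIndep` -/
theorem torIndep_of_tor_toModule
    (htor : ∀ i : ℕ, 0 < i →
      Subsingleton (@DRing.Tor R _ i R' A _ ρ.hom.toModule _ φ.hom.toModule)) :
    TorIndep φ.hom ρ.hom := by
  intro n
  haveI := htor (n + 1) (Nat.succ_pos n)
  have hz : IsZero (T (n + 1) (@ModuleCat.of R _ R' _ ρ.hom.toModule)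
      (@ModuleCat.of R _ A _ φ.hom.toModule)) :=
    ModuleCat.isZero_of_subsingleton _
  have hz' := @Groth.Agent.Lib.Helper5.BC.isZero_tor_succ_symm R _ n R' A _ ρ.hom.toModule _ φ.hom.toModule hz
  let eA : (ModuleCat.restrictScalars.{u} φ.hom).obj (ModuleCat.of A A) ≅
      @ModuleCat.of R _ A _ φ.hom.toModule := Iso.refl _
  let eR' : SR ρ.hom ≅ @ModuleCat.of R _ R' _ ρ.hom.toModule := Iso.refl _
  exact hz'.of_iso (torCongrLeft eA _ (n + 1) ≪≫ torCongrRight _ eR' (n + 1))

/-- **ring-level tor independent base change on resolutions** -/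
theorem quasiIso_bcCx_of_tor
    (htor : ∀ i : ℕ, 0 < i →
      Subsingleton (@DRing.Tor R _ i R' A _ ρ.hom.toModule _ φ.hom.toModule))
    (P : DRing.Cx A) [P.IsKProjective] {G : DRing.Cx R} [G.IsKProjective]
    (r : G ⟶ (rsCx φ.hom).obj P) (hr : QuasiIso r) : QuasiIso ((bcCx ρ.hom).map r) := by
  have hp := IsPushout.of_hasPushout φ ρ
  have h : (pushout.inl φ ρ).hom.comp φ.hom = (pushout.inr φ ρ).hom.comp ρ.hom := by
    rw [← CommRingCat.hom_comp, ← CommRingCat.hom_comp, pushout.condition]
  exact quasiIso_bcCx_of_torIndep h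
    (Groth.Agent.Lib.Helper5.FibStalk.isCocart_of_isPushout_commRingCat hp h)
    (torIndep_of_tor_toModule φ ρ htor) P r hr

end Cat

end Groth.Agent.Lib.Helper5.TorInd
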