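import Mathlib
import Groth.Agent.Lib.Helper5.BC.FlatLeft
import Groth.Agent.Lib.Helper5.TorInd.Ring
import Groth.Agent.Lib.Helper5.TorInd.Class
import Groth.Agent.Lib.Helper5.FibStalk.ProdTor

/-!
# Tor independent base change: the affine case (helper5)
-/
set_option autoImplicit false
set_option linter.unusedSectionVars false
set_option linter.unusedVariables false
set_option linter.style.haveILetI false
universe u
open CategoryTheory CategoryTheory.Limits AlgebraicGeometry
attribute [local instance] HasDerivedCategory.standard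

namespace Groth.Agent.Lib.Helper5.BC

open Groth.Agent.Lib.Helper5.LpullLib Groth.Agent.Helper3.KInjDer
open Groth.Agent.Lib.Helper5.QC Groth.Agent.Lib.Helper5.MV Helper5.KInj
open Groth.Agent.Helper1 Groth.Agent.Lib.Helper5.KFlat Groth.Agent.Lib.Helper5.RestrTen
  Groth.Agent.Lib.Helper5.KProj

section KapTransfer

variable {Y Y' : Scheme.{u}} (g : Y' ⟶ Y)

/-- `Lg^* (Q C) ⟶ Q (g^* C)` is an isomorphism as soon as `g^*` preserves one K-flat
resolution of `C` -/
theorem isIso_kap_of_resolution {C D : CochainComplex Y.Modules ℤ} (ψ : D ⟶ C)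
    (hψ : QuasiIso ψ) (hD : DCoh.IsKFlat D)
    (hq : QuasiIso (((Scheme.Modules.pullback g).mapHomologicalComplex
      (ComplexShape.up ℤ)).map ψ)) :
    IsIso (kap g ((HomotopyCategory.quotient Y.Modules (ComplexShape.up ℤ)).obj C)) := by
  have hnat := kap_naturality g ((HomotopyCategory.quotient Y.Modules (ComplexShape.up ℤ)).map ψ)
  haveI h1 := isIso_kap_of_isKFlat g D hD
  haveI : IsIso (DerivedCategory.Q.map ψ) := (DerivedCategory.isIso_Q_map_iff_quasiIso _ ψ).2 hψ
  haveI h2 : IsIso ((DCoh.Lpull g).map (DerivedCategory.Qh.map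
      ((HomotopyCategory.quotient Y.Modules (ComplexShape.up ℤ)).map ψ))) :=
    inferInstanceAs (IsIso ((DCoh.Lpull g).map (DerivedCategory.Q.map ψ)))
  haveI h3 : IsIso (DerivedCategory.Qh.map ((pullK g).map
      ((HomotopyCategory.quotient Y.Modules (ComplexShape.up ℤ)).map ψ))) :=
    (DerivedCategory.isIso_Q_map_iff_quasiIso _ _).2 hq
  have h4 : IsIso ((DCoh.Lpull g).map (DerivedCategory.Qh.map
      ((HomotopyCategory.quotient Y.Modules (ComplexShape.up ℤ)).map ψ)) ≫
      kap g ((HomotopyCategory.quotient Y.Modules (ComplexShape.up ℤ)).obj C)) := by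
    rw [hnat]
    infer_instance
  exact IsIso.of_isIso_comp_left ((DCoh.Lpull g).map (DerivedCategory.Qh.map
      ((HomotopyCategory.quotient Y.Modules (ComplexShape.up ℤ)).map ψ))) _

end KapTransfer

section QisTransfer

variable {A B : Type*} [Category A] [Abelian A] [Category B] [Abelian B]

/-- quasi-isomorphisms are transported along natural isomorphisms of functors on complexes -/
theorem quasiIso_map_iff_of_natIso {F F' : CochainComplex A ℤ ⥤ CochainComplex B ℤ}
    (α : F ≅ F') {K L : CochainComplex A ℤ} (r : K ⟶ L) :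
    QuasiIso (F.map r) ↔ QuasiIso (F'.map r) :=
  quasiIso_iff_of_arrow_mk_iso _ _
    (Arrow.isoMk (α.app K) (α.app L) (by simp))

end QisTransfer

section Affine

variable {X Y Y' : Scheme.{u}} [IsAffine X] [IsAffine Y] [IsAffine Y'] (f : X ⟶ Y) (g : Y' ⟶ Y)

/-- the module-level identification of `g^*` on tildes, for affine schemes -/
noncomputable def pullTildeAffIso :
    tilde.functor Γ(Y, ⊤) ⋙ Scheme.Modules.pullback Y.isoSpec.hom ⋙ Scheme.Modules.pullback g ≅
      ModuleCat.extendScalars.{u, u, u} g.appTop.hom ⋙ tilde.functor Γ(Y', ⊤) ⋙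
        Scheme.Modules.pullback Y'.isoSpec.hom :=
  Functor.isoWhiskerLeft (tilde.functor Γ(Y, ⊤))
      (Scheme.Modules.pullbackComp g Y.isoSpec.hom ≪≫
        Scheme.Modules.pullbackCongr (Scheme.isoSpec_hom_naturality g).symm ≪≫
        (Scheme.Modules.pullbackComp Y'.isoSpec.hom (Spec.map g.appTop)).symm) ≪≫
    (Functor.associator _ _ _).symm ≪≫
    Functor.isoWhiskerRight (TildeBC.pullbackTildeIso g.appTop)
      (Scheme.Modules.pullback Y'.isoSpec.hom) ≪≫
    Functor.associator _ _ _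

/-- `g^*` of the tilde of a chain map is a quasi-isomorphism as soon as the extension of
scalars of the chain map is -/
theorem quasiIso_pullback_isoSpec_tilde {N N' : CochainComplex (ModuleCat.{u} Γ(Y, ⊤)) ℤ}
    (r : N ⟶ N') (hr : QuasiIso ((bcCx g.appTop.hom).map r)) :
    QuasiIso (((Scheme.Modules.pullback g).mapHomologicalComplex (ComplexShape.up ℤ)).map
      (((Scheme.Modules.pullback Y.isoSpec.hom).mapHomologicalComplex (ComplexShape.up ℤ)).map
        ((tCx Γ(Y, ⊤)).map r))) := by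
  have key := quasiIso_map_iff_of_natIso
    (NatIso.mapHomologicalComplex (pullTildeAffIso g) (ComplexShape.up ℤ)) r
  have h2 : QuasiIso ((((ModuleCat.extendScalars.{u, u, u} g.appTop.hom ⋙
      tilde.functor Γ(Y', ⊤) ⋙ Scheme.Modules.pullback Y'.isoSpec.hom)).mapHomologicalComplex
        (ComplexShape.up ℤ)).map r) := by
    haveI := hr
    haveI : QuasiIso ((tCx Γ(Y', ⊤)).map ((bcCx g.appTop.hom).map r)) := inferInstance
    exact (inferInstance : QuasiIso
      (((Scheme.Modules.pullback Y'.isoSpec.hom).mapHomologicalComplex (ComplexShape.up ℤ)).map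
        ((tCx Γ(Y', ⊤)).map ((bcCx g.appTop.hom).map r))))
  exact key.2 h2

end Affine

section AffineMain

variable {X Y Y' : Scheme.{u}} [IsAffine X] [IsAffine Y] [IsAffine Y'] (f : X ⟶ Y) (g : Y' ⟶ Y)

open Groth.Agent.Lib.Helper5.TBC in
/-- under tor independence, `Lg^* ⟶ g^*` is an isomorphism on the pushforward of the standard
K-projective representative -/
theorem isIso_kap_pushC_of_tor
    (htor : ∀ i : ℕ, 0 < i → Subsingleton (@DRing.Tor Γ(Y, ⊤) _ i Γ(Y', ⊤) Γ(X, ⊤) _
      g.appTop.hom.toModule _ f.appTop.hom.toModule))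
    (M : CochainComplex (ModuleCat.{u} Γ(X, ⊤)) ℤ) [M.IsKProjective] :
    IsIso (kap g ((HomotopyCategory.quotient Y.Modules (ComplexShape.up ℤ)).obj
      (((Scheme.Modules.pushforward f).mapHomologicalComplex (ComplexShape.up ℤ)).obj
        (((Scheme.Modules.pullback X.isoSpec.hom).mapHomologicalComplex (ComplexShape.up ℤ)).obj
          ((tCx Γ(X, ⊤)).obj M))))) := by
  let N : CochainComplex (ModuleCat.{u} Γ(Y, ⊤)) ℤ := (rsCx f.appTop.hom).obj M
  let r : res N ⟶ N := resMap N
  have hbc : QuasiIso ((bcCx g.appTop.hom).map r) :=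
    Groth.Agent.Lib.Helper5.TorInd.quasiIso_bcCx_of_tor f.appTop g.appTop htor M r inferInstance
  let D₀ := (tCx Γ(X, ⊤)).obj M
  have hD₀ : ∀ i, (D₀.X i).IsQuasicoherent := fun i =>
    (inferInstance : ((tilde.functor Γ(X, ⊤)).obj (M.X i)).IsQuasicoherent)
  haveI := isIso_bcC_of_isQuasicoherent (isPullback_isoSpec f) D₀ hD₀
  let e1 := asIso (bcC (isPullback_isoSpec f).w D₀)
  let e2 := (tildePushCxIso f.appTop).app M
  let ψ := ((Scheme.Modules.pullback Y.isoSpec.hom).mapHomologicalComplex (ComplexShape.up ℤ)).map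
      ((tCx Γ(Y, ⊤)).map r) ≫
    ((Scheme.Modules.pullback Y.isoSpec.hom).mapHomologicalComplex (ComplexShape.up ℤ)).map e2.inv ≫
    e1.hom
  haveI hq1 : QuasiIso (((Scheme.Modules.pullback Y.isoSpec.hom).mapHomologicalComplex
      (ComplexShape.up ℤ)).map ((tCx Γ(Y, ⊤)).map r)) := by
    haveI : QuasiIso ((tCx Γ(Y, ⊤)).map r) := inferInstance
    infer_instance
  have hψ : QuasiIso ψ := inferInstance
  have hD : DCoh.IsKFlat (((Scheme.Modules.pullback Y.isoSpec.hom).mapHomologicalComplex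
      (ComplexShape.up ℤ)).obj ((tCx Γ(Y, ⊤)).obj (res N))) :=
    Groth.Agent.Lib.Helper5.KFlatPull.isKFlat_pullback Y.isoSpec.hom _
      (Groth.Agent.Lib.Helper5.TildeStalk.isKFlat_tilde Γ(Y, ⊤) _ (isKFlat_res N))
  refine isIso_kap_of_resolution g ψ hψ hD ?_
  haveI := quasiIso_pullback_isoSpec_tilde g r hbc
  dsimp only [ψ]
  rw [Functor.map_comp, Functor.map_comp]
  infer_instance

end AffineMain

section Repr

/-- objects of `D_QCoh(Spec R)` are represented by tildes of K-projective K-flat complexes -/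
theorem exists_tildeCx_iso_kproj_ring (R : CommRingCat.{u})
    (K : DCoh.D (Spec (CommRingCat.of R))) (hK : DCoh.IsQCohD K) :
    ∃ M : CochainComplex (ModuleCat.{u} R) ℤ, M.IsKProjective ∧ DRing.IsKFlat R M ∧
      Nonempty (DerivedCategory.Q.obj ((tCx R).obj M) ≅ K) := by
  obtain ⟨M₀, ⟨e⟩⟩ := exists_tildeCx_iso R K hK
  haveI : QuasiIso ((tCx R).map (resMap M₀)) := inferInstance
  haveI : IsIso (DerivedCategory.Q.map ((tCx R).map (resMap M₀))) :=
    (DerivedCategory.isIso_Q_map_iff_quasiIso _ _).2 inferInstance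
  exact ⟨res M₀, inferInstance, isKFlat_res M₀,
    ⟨asIso (DerivedCategory.Q.map ((tCx R).map (resMap M₀))) ≪≫ e⟩⟩

/-- on an affine scheme, every object of `D_QCoh` is represented by the pullback of the tilde of
a K-projective K-flat complex of modules -/
theorem exists_kproj_repr (U : Scheme.{u}) [IsAffine U] (K : DCoh.D U) (hK : DCoh.IsQCohD K) :
    ∃ M : CochainComplex (ModuleCat.{u} Γ(U, ⊤)) ℤ, M.IsKProjective ∧ DRing.IsKFlat Γ(U, ⊤) M ∧
      Nonempty (K ≅ DerivedCategory.Q.obj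
        (((Scheme.Modules.pullback U.isoSpec.hom).mapHomologicalComplex (ComplexShape.up ℤ)).obj
          ((tCx Γ(U, ⊤)).obj M))) := by
  let φ : U ≅ Spec (CommRingCat.of Γ(U, ⊤)) := U.isoSpec
  let K₀ : CochainComplex U.Modules ℤ := DerivedCategory.Q.objPreimage K
  let eK₀ : DerivedCategory.Q.obj K₀ ≅ K := DerivedCategory.Q.objObjPreimageIso K
  have hK' : DCoh.IsQCohD (DerivedCategory.Q.obj (resCx φ.inv K₀)) :=
    isQCohD_resCx φ.inv K₀ (isQCohD_of_iso eK₀.symm hK)
  obtain ⟨M, hMp, hM, ⟨eM⟩⟩ := exists_tildeCx_iso_kproj_ring Γ(U, ⊤) _ hK'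
  refine ⟨M, hMp, hM, ⟨?_⟩⟩
  let e : Scheme.Modules.restrictFunctor φ.inv ⋙ Scheme.Modules.restrictFunctor φ.hom ≅
      𝟭 U.Modules :=
    (Scheme.Modules.restrictFunctorComp φ.hom φ.inv).symm ≪≫
      Scheme.Modules.restrictFunctorCongr φ.hom_inv_id ≪≫ Scheme.Modules.restrictFunctorId
  let e1 : resCx φ.hom (resCx φ.inv K₀) ≅ K₀ :=
    HomologicalComplex.Hom.isoOfComponents (fun i => e.app (K₀.X i)) (by
      intro i j _
      exact (e.hom.naturality (K₀.d i j)).symm)
  exact eK₀.symm ≪≫ DerivedCategory.Q.mapIso e1.symm ≪≫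
    ((Scheme.Modules.restrictFunctor φ.hom).mapDerivedCategoryFactors.app _).symm ≪≫
    (DCoh.restrictD φ.hom).mapIso eM.symm ≪≫
    (Scheme.Modules.restrictFunctor φ.hom).mapDerivedCategoryFactors.app _ ≪≫
    DerivedCategory.Q.mapIso ((NatIso.mapHomologicalComplex
      (Scheme.Modules.restrictFunctorIsoPullback φ.hom) (ComplexShape.up ℤ)).app _)

end Repr

section Main

variable {X Y X' Y' : Scheme.{u}} {f : X ⟶ Y} {g : Y' ⟶ Y} {f' : X' ⟶ Y'} {g' : X' ⟶ X}

lemma appLE_top_eq_appTop {X Y : Scheme.{u}} (f : X ⟶ Y) (h : (⊤ : X.Opens) ≤ f ⁻¹ᵁ ⊤) :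
    f.appLE ⊤ ⊤ h = f.appTop := by
  simp [Scheme.Hom.appLE, Scheme.Hom.appTop]

theorem bcFor_torInd_affine : BCFor @TorIndClass (fun X => IsAffine X) := by
  intro X Y X' Y' f g f' g' hsq hX hY hY' hfg E hE
  haveI := hX
  haveI := hY
  haveI := hY'
  obtain ⟨M, hMp, hM, ⟨e⟩⟩ := exists_kproj_repr X E hE
  haveI := hMp
  let C := ((Scheme.Modules.pullback X.isoSpec.hom).mapHomologicalComplex (ComplexShape.up ℤ)).obj
    ((tCx Γ(X, ⊤)).obj M)
  have hC : ∀ i, (C.X i).IsQuasicoherent := fun i => by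
    haveI : (((tCx Γ(X, ⊤)).obj M).X i).IsQuasicoherent :=
      (inferInstance : ((tilde.functor Γ(X, ⊤)).obj (M.X i)).IsQuasicoherent)
    exact QcPullGen.isQuasicoherent_pullback X.isoSpec.hom (((tCx Γ(X, ⊤)).obj M).X i)
  have hK : DCoh.IsKFlat C :=
    Groth.Agent.Lib.Helper5.KFlatPull.isKFlat_pullback X.isoSpec.hom _
      (Groth.Agent.Lib.Helper5.TildeStalk.isKFlat_tilde Γ(X, ⊤) M hM)
  have htor : ∀ i : ℕ, 0 < i → TorP f.appTop g.appTop i := by
    intro i hi
    have h0 := hfg ⊤ (isAffineOpen_top Y) ⊤ (isAffineOpen_top Y') le_top ⊤ (isAffineOpen_top X)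
      le_top i hi
    rw [appLE_top_eq_appTop, appLE_top_eq_appTop] at h0
    exact h0
  exact Helper5.Gen.isIso_app_of_iso _ e.symm
    (isIso_theta_Q_of_kap hsq C hC (isIso_kap_of_isKFlat g' C hK)
      (isIso_kap_pushC_of_tor f g htor M))

/-- **tor independent base change** for a quasi-compact quasi-separated morphism -/
theorem isIso_theta_of_torInd (hsq : IsPullback g' f' f g) [QuasiCompact f] [QuasiSeparated f]
    (htor : TorIndClass f g) (E : DCoh.D X) (hE : DCoh.IsQCohD E) :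
    IsIso ((theta hsq.w).app E) :=
  isIso_theta_of_bcClass bcClass_torInd bcFor_torInd_affine hsq htor E hE

end Main

end Groth.Agent.Lib.Helper5.BC
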