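import Mathlib
import Groth.Agent.Lib.Helper1.TorL
import Groth.Agent.Lib.Helper5.TorInd.Class

/-!
# Tor vanishing for a flat base change: `Tor_i^R(R ⊗_B N, A) = 0` for `R`, `A` flat over `B`
(helper5)
-/
set_option autoImplicit false
set_option linter.unusedSectionVars false
set_option linter.unusedVariables false
set_option linter.style.haveILetI false
universe u
open CategoryTheory CategoryTheory.Limits TensorProduct

namespace Groth.Agent.Lib.Helper5.TorFlat

open Groth.Agent.Helper1.TorL

section Alg

variable {B R : Type u} [CommRing B] [CommRing R] [Algebra B R] [Module.Flat B R]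

variable (B R) in
/-- the base change to `R` of a free presentation of the `B`-module `N` -/
noncomputable def bcPres (N : Type u) [AddCommGroup N] [Module B N] :
    ShortComplex (ModuleCat.{u} R) :=
  ModuleCat.shortComplexOfCompEqZero
    ((LinearMap.ker (Finsupp.linearCombination B (id : N → N))).subtype.baseChange R)
    ((Finsupp.linearCombination B (id : N → N)).baseChange R) (by
      rw [← LinearMap.baseChange_comp]
      have : (Finsupp.linearCombination B (id : N → N)) ∘ₗ
          (LinearMap.ker (Finsupp.linearCombination B (id : N → N))).subtype = 0 := by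
        ext x
        exact x.2
      rw [this, LinearMap.baseChange_zero])

theorem bcPres_shortExact (N : Type u) [AddCommGroup N] [Module B N] :
    (bcPres B R N).ShortExact := by
  apply ModuleCat.shortComplex_shortExact
  · show Function.Exact
      ((LinearMap.ker (Finsupp.linearCombination B (id : N → N))).subtype.baseChange R)
      ((Finsupp.linearCombination B (id : N → N)).baseChange R)
    rw [LinearMap.baseChange_eq_ltensor, LinearMap.baseChange_eq_ltensor]
    exact lTensor_exact R (LinearMap.exact_subtype_ker_map _)
      (Finsupp.linearCombination_id_surjective B N)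
  · show Function.Injective
      ((LinearMap.ker (Finsupp.linearCombination B (id : N → N))).subtype.baseChange R)
    rw [LinearMap.baseChange_eq_ltensor]
    exact Module.Flat.lTensor_preserves_injective_linearMap _ (Submodule.injective_subtype _)
  · show Function.Surjective ((Finsupp.linearCombination B (id : N → N)).baseChange R)
    rw [LinearMap.baseChange_eq_ltensor]
    exact LinearMap.lTensor_surjective R (Finsupp.linearCombination_id_surjective B N)

instance (N : Type u) [AddCommGroup N] [Module B N] : Module.Flat R (bcPres B R N).X₂ :=
  inferInstanceAs (Module.Flat R (R ⊗[B] (N →₀ B)))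

variable (A : Type u) [AddCommGroup A] [Module R A] [Module B A] [IsScalarTower B R A]
  [Module.Flat B A]

theorem injective_bcPres_rTensor (N : Type u) [AddCommGroup N] [Module B N] :
    Function.Injective ((bcPres B R N).f.hom.rTensor A) := by
  let f := (LinearMap.ker (Finsupp.linearCombination B (id : N → N))).subtype
  show Function.Injective ((f.baseChange R).rTensor A)
  rw [← LinearMap.lTensor_inj_iff_rTensor_inj]
  have h1 : Function.Injective (f.lTensor A) :=
    Module.Flat.lTensor_preserves_injective_linearMap _ (Submodule.injective_subtype _)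
  have h2 := TensorProduct.AlgebraTensorModule.lTensor_comp_cancelBaseChange
    (R := B) (A := R) (B := R) (M := A) f
  have h3 : Function.Injective
      ((TensorProduct.AlgebraTensorModule.cancelBaseChange B R R A _).toLinearMap ∘ₗ
        TensorProduct.AlgebraTensorModule.lTensor R A
          (TensorProduct.AlgebraTensorModule.lTensor R R f)) := by
    rw [← h2]
    exact h1.comp (TensorProduct.AlgebraTensorModule.cancelBaseChange B R R A _).injective
  have h4 : Function.Injective (TensorProduct.AlgebraTensorModule.lTensor R A
      (TensorProduct.AlgebraTensorModule.lTensor R R f)) := by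
    rw [LinearMap.coe_comp] at h3
    exact Function.Injective.of_comp h3
  intro x y hxy
  exact h4 hxy

/-- **Tor vanishing for flat base change** -/
theorem isZero_tor_baseChange (n : ℕ) : ∀ (N : Type u) [AddCommGroup N] [Module B N],
    IsZero (T (n + 1) (ModuleCat.of R (R ⊗[B] N)) (ModuleCat.of R A)) := by
  induction n with
  | zero =>
    intro N _ _
    have h₂ : IsZero (T 1 (bcPres B R N).X₂ (ModuleCat.of R A)) :=
      isZero_tor_succ_of_flat _ _ 0
    exact (isZero_tor_one_X₃_iff (bcPres B R N) (bcPres_shortExact N) (ModuleCat.of R A) h₂).2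
      (injective_bcPres_rTensor A N)
  | succ n ih =>
    intro N _ _
    have h₂ : IsZero (T (n + 1 + 1) (bcPres B R N).X₂ (ModuleCat.of R A)) :=
      isZero_tor_succ_of_flat _ _ (n + 1)
    exact isZero_tor_succ_X₃ (bcPres B R N) (bcPres_shortExact N) (ModuleCat.of R A) (n + 1) h₂
      (ih (LinearMap.ker (Finsupp.linearCombination B (id : N → N))))

end Alg

section Cat

open Groth.Agent.Lib.Helper5.BC

/-- **tor independence for a flat base change square of rings**: if `R' = R ⊗_B B'` with `R`
flat over `B`, and `A` is an `R`-algebra which is flat over `B`, then `Tor_i^R(R', A) = 0` for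
`i > 0` -/
theorem torP_of_isPushout_flat {B R B' R' A : CommRingCat.{u}} {β : B ⟶ R} {β' : B ⟶ B'}
    {ρ : R ⟶ R'} {γ : B' ⟶ R'} (H : IsPushout β β' ρ γ) (φ : R ⟶ A)
    (hβ : β.hom.Flat) (hφβ : (β ≫ φ).hom.Flat) (i : ℕ) (hi : 0 < i) : TorP φ ρ i := by
  obtain ⟨n, rfl⟩ := Nat.exists_eq_succ_of_ne_zero hi.ne'
  letI : Algebra B R := β.hom.toAlgebra
  letI : Algebra B B' := β'.hom.toAlgebra
  letI : Module R A := φ.hom.toModule
  letI : Module B A := (β ≫ φ).hom.toModule
  haveI : IsScalarTower B R A := ⟨fun b r a => by
    change φ.hom (β.hom b * r) * a = φ.hom (β.hom b) * (φ.hom r * a)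
    rw [map_mul, mul_assoc]⟩
  haveI : Module.Flat B R := hβ
  haveI : Module.Flat B A := hφβ
  letI : Module R R' := ρ.hom.toModule
  have hz := isZero_tor_baseChange (B := B) (R := R) A n B'
  let e := (CommRingCat.isPushout_tensorProduct B R B').isoIsPushout R B' H
  have he : ∀ r : R, e.hom.hom (Algebra.TensorProduct.includeLeftRingHom r) = ρ.hom r := by
    intro r
    have h := IsPushout.inl_isoIsPushout_hom R B' (CommRingCat.isPushout_tensorProduct B R B') H
    exact congrArg (fun t => t.hom r) h
  let eL : (R ⊗[B] B') ≃ₗ[R] R' :=
    { toFun := fun x => e.hom.hom x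
      map_add' := fun x y => map_add e.hom.hom x y
      map_smul' := fun r x => by
        change e.hom.hom (r • x) = ρ.hom r * e.hom.hom x
        rw [← he r, ← map_mul]
        congr 1
        rw [Algebra.smul_def]
        rfl
      invFun := fun y => e.inv.hom y
      left_inv := fun x => by
        change (e.hom ≫ e.inv).hom x = x
        rw [Iso.hom_inv_id]
        rfl
      right_inv := fun y => by
        change (e.inv ≫ e.hom).hom y = y
        rw [Iso.inv_hom_id]
        rfl }
  exact ModuleCat.subsingleton_of_isZero
    (hz.of_iso (torCongrLeft eL.toModuleIso.symm (ModuleCat.of R A) (n + 1)))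

end Cat

end Groth.Agent.Lib.Helper5.TorFlat
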